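import Cfsg.Agent.H113.PSL.Three
import Cfsg.Agent.H671.H5Facts
import Cfsg.Agent.S0157
import Cfsg.Agent.H424.DegTools
import Cfsg.Agent.H670.PSing

/-!
# Itô-Michler and the degree graph of `PSL_n(q)`, `n ≥ 3` (hub H5, helper113)

Under `hC : ∀ m, 1 ≤ m → HasCusp F m` (the cuspidal characters of `GL_m(q)`):

* `im` : every prime divisor of `|PSL_n(q)|` divides a character degree;
* `indep` : among three primes dividing degrees two are adjacent;
* `conn` : the degree graph is connected, `(n, q) ≠ (3, 2)`;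
* `tri` : there is a triangle, `(n, q) ≠ (3, 2)`.
-/

set_option autoImplicit false
set_option linter.unusedSectionVars false
set_option linter.style.haveILetI false

open scoped ComplexConjugate LinearAlgebra.Projectivization
open Cfsg Matrix

namespace Cfsg.Agent.H113.PSL.Facts

open Cfsg.Agent.H53.HC Cfsg.Agent.Characters MulAction Module Para Pass Hyper Degrees Three
open Cfsg.Agent.H671.H5

universe u v w

/-- cancelling the divisor `t` of `c` -/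
theorem dvd_of_mul_eq {φ t c D : ℕ} (hc : 0 < c) (ht : t ∣ c) (h : φ * t = c * D) : D ∣ φ := by
  obtain ⟨s, rfl⟩ := ht
  have ht0 : 0 < t := Nat.pos_of_mul_pos_right hc
  refine ⟨s, ?_⟩
  have : φ * t = (D * s) * t := by rw [h]; ring
  exact Nat.eq_of_mul_eq_mul_right ht0 this

variable {F : Type u} [Field F] [Fintype F]

local notation "𝔮" => Fintype.card F

theorem one_lt_q : 1 < 𝔮 := Fintype.one_lt_card

theorem geom (n : ℕ) : (∑ i ∈ Finset.range n, 𝔮 ^ i) * (𝔮 - 1) = 𝔮 ^ n - 1 := by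
  have h1 := Nat.geomSum_eq (m := 𝔮) one_lt_q n
  rw [h1]
  apply Nat.div_mul_cancel
  simpa using Nat.sub_dvd_pow_sub_pow 𝔮 1 n

/-- **T1** : a character of degree divisible by `∏_{2 ≤ i < n} (q^i - 1)` -/
theorem t1 {n : ℕ} (hn : 2 ≤ n) (h : HasCusp F n) :
    ∃ φ : IrrCharacter (ProjectiveSpecialLinearGroup (Fin n) F),
      (∏ i ∈ Finset.range (n - 2), (𝔮 ^ (i + 2) - 1)) ∣
        charDegree (φ : ProjectiveSpecialLinearGroup (Fin n) F → ℂ) := by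
  obtain ⟨φ, t, ht, hφ⟩ := exists_cusp hn h
  have hq := one_lt_q (F := F)
  refine ⟨φ, dvd_of_mul_eq (c := 𝔮 - 1) (by omega) (ht.trans (Nat.gcd_dvd_right _ _)) ?_⟩
  rw [hφ]
  obtain ⟨k, rfl⟩ : ∃ k, n = k + 2 := ⟨n - 2, by omega⟩
  change ∏ i ∈ Finset.range (k + 1), _ = _
  rw [Finset.prod_range_succ', mul_comm]
  simp

/-- **T2** : a character of degree divisible by `(q^n - 1) / (q - 1) ∏_{2 ≤ i < n - 1} (q^i - 1)` -/
theorem t2 {m : ℕ} (hm : 2 ≤ m) (h : HasCusp F m) :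
    ∃ (φ : IrrCharacter (ProjectiveSpecialLinearGroup (Fin (m + 1)) F)) (t : ℕ),
      t ∣ Nat.gcd (m + 1) (𝔮 - 1) ∧
      charDegree (φ : ProjectiveSpecialLinearGroup (Fin (m + 1)) F → ℂ) * t =
        (𝔮 - 1) * ((∑ i ∈ Finset.range (m + 1), 𝔮 ^ i) * ∏ i ∈ Finset.range (m - 2), (𝔮 ^ (i + 2) - 1)) := by
  obtain ⟨φ, t, ht, hφ⟩ := exists_hyper hm h
  have hq := one_lt_q (F := F)
  refine ⟨φ, t, ht, ?_⟩
  apply Nat.eq_of_mul_eq_mul_right (show 0 < 𝔮 - 1 by omega)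
  rw [hφ, ← geom]
  obtain ⟨k, rfl⟩ : ∃ k, m = k + 2 := ⟨m - 2, by omega⟩
  change _ * ∏ i ∈ Finset.range (k + 1), _ = _
  rw [Finset.prod_range_succ']
  simp only [Nat.add_sub_cancel, zero_add, pow_one]
  ring

/-- **T3** : the character of degree `q (q^(n-1) - 1) / (q - 1)` -/
theorem t3 {n : ℕ} (hn : 2 ≤ n) : ∃ φ : IrrCharacter (ProjectiveSpecialLinearGroup (Fin n) F),
    charDegree (φ : ProjectiveSpecialLinearGroup (Fin n) F → ℂ) = 𝔮 * ∑ i ∈ Finset.range (n - 1), 𝔮 ^ i := by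
  have hfin : Finite (ProjectiveSpecialLinearGroup (Fin n) F) := by
    unfold ProjectiveSpecialLinearGroup
    infer_instance
  have hfin' : Finite (ℙ F (Fin n → F)) := by
    unfold Projectivization
    infer_instance
  have h2 : IsMultiplyPretransitive (ProjectiveSpecialLinearGroup (Fin n) F) (ℙ F (Fin n → F)) 2 := by
    have h : IsMultiplyPretransitive (SpecialLinearGroup (Fin n) F) (ℙ F (Fin n → F)) 2 := inferInstance
    constructor
    intro x y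
    obtain ⟨g, hg⟩ := h.exists_smul_eq x y
    refine ⟨QuotientGroup.mk g, ?_⟩
    rw [← hg]
    ext i
    rfl
  have htr : IsPretransitive (ProjectiveSpecialLinearGroup (Fin n) F) (ℙ F (Fin n → F)) :=
    MulAction.isPretransitive_of_is_two_pretransitive
  have hq := one_lt_q (F := F)
  have hc : Nat.card (ℙ F (Fin n → F)) = 𝔮 * (∑ i ∈ Finset.range (n - 1), 𝔮 ^ i) + 1 := by
    rw [Projectivization.card_of_finrank F (Fin n → F) (n := n) (by simp), Nat.card_eq_fintype_card]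
    obtain ⟨k, rfl⟩ : ∃ k, n = k + 1 := ⟨n - 1, by omega⟩
    rw [Finset.sum_range_succ', Nat.add_sub_cancel, Finset.mul_sum]
    congr 1
    refine Finset.sum_congr rfl fun i _ => ?_
    rw [pow_succ']
  have hpos : 0 < ∑ i ∈ Finset.range (n - 1), 𝔮 ^ i := by
    apply Finset.sum_pos (fun i _ => pow_pos (by omega) _)
    exact ⟨0, Finset.mem_range.2 (by omega)⟩
  refine ⟨⟨_, (Cfsg.Agent.S0157.result (G := ProjectiveSpecialLinearGroup (Fin n) F)
    (ℙ F (Fin n → F)) (by rw [hc]; have := Nat.mul_pos (show 0 < 𝔮 by omega) hpos; omega)).2 h2⟩, ?_⟩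
  apply H670.PSing.charDegree_eq_of
  change ((Nat.card (fixedBy (ℙ F (Fin n → F)) (1 : ProjectiveSpecialLinearGroup (Fin n) F)) : ℂ) - 1) = _
  have h3 : fixedBy (ℙ F (Fin n → F)) (1 : ProjectiveSpecialLinearGroup (Fin n) F) = Set.univ := by
    ext i
    simp
  rw [h3, Nat.card_univ, hc]
  push_cast
  ring

/-- **T7** : `n = 4` : a character of degree `q (q - 1) (q² + 1) (q² + q + 1) / t` -/
theorem t7 (h : HasCusp F 2) :
    ∃ (φ : IrrCharacter (ProjectiveSpecialLinearGroup (Fin 4) F)) (t : ℕ), t ∣ Nat.gcd 4 (𝔮 - 1) ∧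
      charDegree (φ : ProjectiveSpecialLinearGroup (Fin 4) F → ℂ) * t =
        (𝔮 - 1) * (𝔮 * ((𝔮 ^ 2 + 1) * (𝔮 ^ 2 + 𝔮 + 1))) := by
  classical
  obtain ⟨Ψ, h1, h2, h3, h4⟩ := h
  have hst := isIrr_st (F := F) 1
  have hq := one_lt_q (F := F)
  let ρ : GL (Fin 4) F →* ((Fin 4 → F) ≃ₗ[F] (Fin 4 → F)) := (glE (Pi.basisFun F (Fin 4))).symm.toMonoidHom
  have hρ : Function.Surjective ρ := (glE (Pi.basisFun F (Fin 4))).symm.surjective
  have hfr : finrank F (Fin 4 → F) = 2 + 2 := by rw [finrank_fin_fun]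
  letI : Fintype (dimSet F (Fin 4 → F) 2) := Fintype.ofFinite _
  letI : Fintype (GL (Fin 4) F) := Fintype.ofFinite _
  have hd1 : Ψ 1 = ((𝔮 - 1 : ℕ) : ℂ) := by simpa using h3
  have hne : Ψ ≠ st 1 := by
    intro h
    rw [h, st_one] at hd1
    have : 𝔮 = 𝔮 - 1 := by exact_mod_cast hd1
    omega
  have hirr := isIrr_paraChar_eq ρ hρ hfr h1 h2 hst hne
  have c1 := Core.isIrr_isClassFunction h1
  have c2 := Core.isIrr_isClassFunction hst
  have hcard : Nat.card (dimSet F (Fin 4 → F) 2) = (𝔮 ^ 2 + 1) * (𝔮 ^ 2 + 𝔮 + 1) := by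
    have h5 := H950.card_subspaces_eq (F := F) (V := Fin 4 → F) (n := 4) (k := 2) (q := 𝔮) (by rw [finrank_fin_fun])
      (by omega) rfl
    change Nat.card {W : Submodule F (Fin 4 → F) // finrank F W = 2} = _
    have e1 : ∏ j : Fin 2, (𝔮 ^ (2 - j.val) - 1) = (𝔮 ^ 2 - 1) * (𝔮 - 1) := by simp [Fin.prod_univ_two]
    have e2 : ∏ j : Fin 2, (𝔮 ^ (4 - j.val) - 1) = (𝔮 ^ 4 - 1) * (𝔮 ^ 3 - 1) := by simp [Fin.prod_univ_two]
    rw [e1, e2] at h5
    obtain ⟨x, hx⟩ : ∃ x, 𝔮 = x + 1 := ⟨𝔮 - 1, by omega⟩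
    rw [hx] at h5 ⊢
    have p1 : (x + 1) ^ 2 - 1 = x * (x + 2) := by
      have : (x + 1) ^ 2 = x * (x + 2) + 1 := by ring
      omega
    have p2 : (x + 1) ^ 4 - 1 = x * (x + 2) * ((x + 1) ^ 2 + 1) := by
      have : (x + 1) ^ 4 = x * (x + 2) * ((x + 1) ^ 2 + 1) + 1 := by ring
      omega
    have p3 : (x + 1) ^ 3 - 1 = x * ((x + 1) ^ 2 + (x + 1) + 1) := by
      have : (x + 1) ^ 3 = x * ((x + 1) ^ 2 + (x + 1) + 1) + 1 := by ring
      omega
    rw [p1, p2, p3, Nat.add_sub_cancel] at h5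
    have hx0 : 0 < x := by omega
    have : 0 < x * (x + 2) * x := by positivity
    apply Nat.eq_of_mul_eq_mul_right this
    rw [h5]
    ring
  obtain ⟨φ, t, ht, hφ⟩ := exists_irr_psl (n := 4) (by norm_num) hirr (fun c => by
      refine paraChar_scalar ρ c1 c2 hfr (c := c) (fun v => ?_) ?_
      · have e1 : ρ (GeneralLinearGroup.scalar (Fin 4) c) = LinearEquiv.smulOfUnit c := by
          change (glE (Pi.basisFun F (Fin 4))).symm _ = _
          rw [MulEquiv.symm_apply_eq]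
          exact (glE_smul _ c _ (fun w => rfl)).symm
        rw [e1]
        rfl
      · rw [h4, st_scalar, st_one]
        simp)
    (d := Nat.card (dimSet F (Fin 4 → F) 2) * ((𝔮 - 1) * 𝔮)) (by
      rw [paraChar_one ρ c1 c2 hfr, hd1, st_one]
      push_cast
      rfl)
  refine ⟨φ, t, ht, ?_⟩
  rw [hφ, hcard]
  ring

/-! ### the primes -/

/-- `r` divides `q^i - 1` for some `1 ≤ i < n` -/
def IsA (F : Type u) [Fintype F] (n r : ℕ) : Prop := ∃ i, 1 ≤ i ∧ i < n ∧ r ∣ Fintype.card F ^ i - 1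

/-- `r` divides `q^n - 1` or `q^i - 1` for some `1 ≤ i < n - 1` -/
def IsB (F : Type u) [Fintype F] (n r : ℕ) : Prop :=
  r ∣ Fintype.card F ^ n - 1 ∨ ∃ i, 1 ≤ i ∧ i + 1 < n ∧ r ∣ Fintype.card F ^ i - 1

/-- `r` divides `q` or `(q^(n-1) - 1)/(q - 1)` -/
def IsC (F : Type u) [Fintype F] (n r : ℕ) : Prop :=
  r ∣ Fintype.card F ∨ r ∣ ∑ i ∈ Finset.range (n - 1), Fintype.card F ^ i

theorem sub_one_dvd (i : ℕ) : 𝔮 - 1 ∣ 𝔮 ^ i - 1 := by
  simpa using Nat.sub_dvd_pow_sub_pow 𝔮 1 i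

theorem exA {n : ℕ} (hn : 3 ≤ n) (h : HasCusp F n) :
    ∃ φ : IrrCharacter (ProjectiveSpecialLinearGroup (Fin n) F), ∀ r : ℕ, IsA F n r →
      r ∣ charDegree (φ : ProjectiveSpecialLinearGroup (Fin n) F → ℂ) := by
  obtain ⟨φ, hφ⟩ := t1 (by omega) h
  refine ⟨φ, ?_⟩
  rintro r ⟨i, hi, hin, hr⟩
  refine dvd_trans ?_ hφ
  by_cases h1 : i = 1
  · subst h1
    refine (hr.trans ?_).trans (Finset.dvd_prod_of_mem (fun j => 𝔮 ^ (j + 2) - 1)
      (Finset.mem_range.2 (show 0 < n - 2 by omega)))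
    rw [pow_one]
    exact sub_one_dvd _
  · refine hr.trans ?_
    have h2 := Finset.dvd_prod_of_mem (fun j => 𝔮 ^ (j + 2) - 1)
      (Finset.mem_range.2 (show i - 2 < n - 2 by omega))
    have h3 : i - 2 + 2 = i := by omega
    simp only [h3] at h2
    exact h2

theorem exB {n : ℕ} (hn : 3 ≤ n) (h : HasCusp F (n - 1)) :
    ∃ φ : IrrCharacter (ProjectiveSpecialLinearGroup (Fin n) F), ∀ r : ℕ, r.Prime → IsB F n r →
      r ∣ charDegree (φ : ProjectiveSpecialLinearGroup (Fin n) F → ℂ) := by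
  obtain ⟨m, rfl⟩ : ∃ m, n = m + 1 := ⟨n - 1, by omega⟩
  rw [Nat.add_sub_cancel] at h
  obtain ⟨φ, t, ht, hφ⟩ := t2 (by omega) h
  have hq := one_lt_q (F := F)
  have hdvd := dvd_of_mul_eq (c := 𝔮 - 1) (by omega) (ht.trans (Nat.gcd_dvd_right _ _)) hφ
  refine ⟨φ, fun r hr hB => ?_⟩
  -- primes dividing `q - 1`
  have key : r ∣ 𝔮 - 1 → r ∣ charDegree (φ : ProjectiveSpecialLinearGroup (Fin (m + 1)) F → ℂ) := by
    intro h1
    by_cases hm : m = 2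
    · subst hm
      by_cases h3 : r = 3
      · subst h3
        refine dvd_trans ?_ hdvd
        apply Dvd.dvd.mul_right
        simp only [Finset.sum_range_succ, Finset.sum_range_zero, zero_add, pow_zero, pow_one]
        obtain ⟨k, hk⟩ := h1
        have : 𝔮 = 3 * k + 1 := by omega
        rw [this]
        exact ⟨3 * k ^ 2 + 3 * k + 1, by ring⟩
      · have h4 : r.Coprime t := by
          rw [hr.coprime_iff_not_dvd]
          intro h5
          have h6 := (h5.trans ht).trans (Nat.gcd_dvd_left _ _)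
          exact h3 ((Nat.prime_dvd_prime_iff_eq hr Nat.prime_three).1 h6)
        refine h4.dvd_of_dvd_mul_right ?_
        rw [hφ]
        exact h1.mul_right _
    · refine (h1.trans ?_).trans ((Dvd.intro_left _ rfl).trans hdvd)
      refine (sub_one_dvd 2).trans ?_
      exact Finset.dvd_prod_of_mem (fun j => 𝔮 ^ (j + 2) - 1) (Finset.mem_range.2 (show 0 < m - 2 by omega))
  rcases hB with h1 | ⟨i, hi, him, h1⟩
  · rw [← geom, hr.dvd_mul] at h1
    rcases h1 with h1 | h1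
    · exact (h1.trans (Dvd.intro _ rfl)).trans hdvd
    · exact key h1
  · by_cases hi1 : i = 1
    · subst hi1
      rw [pow_one] at h1
      exact key h1
    · refine (h1.trans ?_).trans ((Dvd.intro_left _ rfl).trans hdvd)
      have h2 := Finset.dvd_prod_of_mem (fun j => 𝔮 ^ (j + 2) - 1)
        (Finset.mem_range.2 (show i - 2 < m - 2 by omega))
      have h3 : i - 2 + 2 = i := by omega
      simp only [h3] at h2
      exact h2

theorem exC {n : ℕ} (hn : 2 ≤ n) :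
    ∃ φ : IrrCharacter (ProjectiveSpecialLinearGroup (Fin n) F), ∀ r : ℕ, IsC F n r →
      r ∣ charDegree (φ : ProjectiveSpecialLinearGroup (Fin n) F → ℂ) := by
  obtain ⟨φ, hφ⟩ := t3 (F := F) hn
  refine ⟨φ, ?_⟩
  rintro r (h | h)
  · rw [hφ]; exact h.mul_right _
  · rw [hφ]; exact h.mul_left _

theorem isC_of_isA {n r : ℕ} (hn : 3 ≤ n) (hr : r.Prime) (hA : IsA F n r) (hB : ¬ IsB F n r) : IsC F n r := by
  obtain ⟨i, hi, hin, h⟩ := hA
  have hi' : i = n - 1 := by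
    by_contra hne
    exact hB (Or.inr ⟨i, hi, by omega, h⟩)
  subst hi'
  rw [← geom, hr.dvd_mul] at h
  rcases h with h | h
  · exact Or.inr h
  · exfalso
    exact hB (Or.inr ⟨1, le_rfl, by omega, by rwa [pow_one]⟩)

/-- the prime divisors of the order -/
theorem cover {n r : ℕ} (hr : r.Prime) (h : r ∣ Nat.card (ProjectiveSpecialLinearGroup (Fin n) F)) :
    r ∣ 𝔮 ∨ IsA F n r ∨ IsB F n r := by
  classical
  have h1 : r ∣ Nat.card (GL (Fin n) F) := by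
    refine h.trans ?_
    have h2 : Nat.card (ProjectiveSpecialLinearGroup (Fin n) F) ∣ Nat.card (SpecialLinearGroup (Fin n) F) :=
      Subgroup.card_quotient_dvd_card _
    exact h2.trans (Subgroup.card_dvd_of_injective (SpecialLinearGroup.toGL (n := Fin n) (R := F))
      SpecialLinearGroup.toGL_injective)
  rw [Matrix.card_GL_field, hr.prime.dvd_finsetProd_iff] at h1
  obtain ⟨i, -, hi⟩ := h1
  have h2 : 𝔮 ^ n - 𝔮 ^ (i : ℕ) = 𝔮 ^ (i : ℕ) * (𝔮 ^ (n - i) - 1) := by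
    rw [Nat.mul_sub, mul_one, ← pow_add, Nat.add_sub_cancel' i.2.le]
  rw [h2, hr.dvd_mul] at hi
  rcases hi with hi | hi
  · exact Or.inl (hr.dvd_of_dvd_pow hi)
  · right
    by_cases h0 : (i : ℕ) = 0
    · right; left
      rwa [h0, Nat.sub_zero] at hi
    · left
      exact ⟨n - i, by have := i.2; omega, by omega, hi⟩

/-- only one prime divides `q` -/
theorem eq_of_dvd_q {r s : ℕ} (hr : r.Prime) (hs : s.Prime) (h1 : r ∣ 𝔮) (h2 : s ∣ 𝔮) : r = s := by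
  obtain ⟨p, hp⟩ := CharP.exists F
  obtain ⟨k, hp', hk⟩ := FiniteField.card F p
  rw [hk] at h1 h2
  rw [(Nat.prime_dvd_prime_iff_eq hr hp').1 (hr.dvd_of_dvd_pow h1),
    (Nat.prime_dvd_prime_iff_eq hs hp').1 (hs.dvd_of_dvd_pow h2)]

/-- **Itô-Michler for `PSL_n(q)`.** -/
theorem im {n : ℕ} (hn : 3 ≤ n) (hC : ∀ m, 1 ≤ m → HasCusp F m) {r : ℕ} (hr : r.Prime)
    (h : r ∣ Nat.card (ProjectiveSpecialLinearGroup (Fin n) F)) :
    IM r (ProjectiveSpecialLinearGroup (Fin n) F) := by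
  rcases cover hr h with h1 | h1 | h1
  · obtain ⟨φ, hφ⟩ := exC (F := F) (n := n) (by omega)
    exact ⟨φ, hφ r (Or.inl h1)⟩
  · obtain ⟨φ, hφ⟩ := exA hn (hC n (by omega))
    exact ⟨φ, hφ r h1⟩
  · obtain ⟨φ, hφ⟩ := exB hn (hC (n - 1) (by omega))
    exact ⟨φ, hφ r hr h1⟩

instance instFinitePSL {n : ℕ} : Finite (ProjectiveSpecialLinearGroup (Fin n) F) := by
  unfold ProjectiveSpecialLinearGroup
  infer_instance

theorem cover' {n r : ℕ} (h : r ∈ degreePrimes (ProjectiveSpecialLinearGroup (Fin n) F)) :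
    r.Prime ∧ (r ∣ 𝔮 ∨ IsA F n r ∨ IsB F n r) := by
  obtain ⟨hr, d, hd, hrd⟩ := h
  exact ⟨hr, cover hr (hrd.trans (H424.DegTools.dvd_card hd))⟩

theorem adj_of {S : Type v} [Group S] {r s : ℕ} (hr : r.Prime) (hs : s.Prime) (hrs : r ≠ s) {φ : IrrCharacter S}
    (h1 : r ∣ charDegree (φ : S → ℂ)) (h2 : s ∣ charDegree (φ : S → ℂ)) : Adj r s S :=
  ⟨hrs, hr, hs, _, ⟨φ, rfl⟩, Nat.Coprime.mul_dvd_of_dvd_of_dvd ((Nat.coprime_primes hr hs).2 hrs) h1 h2⟩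

/-- **Among three primes two are adjacent.** -/
theorem indep {n : ℕ} (hn : 3 ≤ n) (hC : ∀ m, 1 ≤ m → HasCusp F m) {r s t : ℕ}
    (hr : r ∈ degreePrimes (ProjectiveSpecialLinearGroup (Fin n) F))
    (hs : s ∈ degreePrimes (ProjectiveSpecialLinearGroup (Fin n) F))
    (ht : t ∈ degreePrimes (ProjectiveSpecialLinearGroup (Fin n) F)) (hrs : r ≠ s) (hst : s ≠ t) (hrt : r ≠ t) :
    Adj r s (ProjectiveSpecialLinearGroup (Fin n) F) ∨ Adj s t (ProjectiveSpecialLinearGroup (Fin n) F) ∨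
      Adj r t (ProjectiveSpecialLinearGroup (Fin n) F) := by
  obtain ⟨φA, hφA⟩ := exA hn (hC n (by omega))
  obtain ⟨φB, hφB⟩ := exB hn (hC (n - 1) (by omega))
  obtain ⟨φC, hφC⟩ := exC (F := F) (n := n) (by omega)
  obtain ⟨pr, cr⟩ := cover' hr
  obtain ⟨ps, cs⟩ := cover' hs
  obtain ⟨pt, ct⟩ := cover' ht
  have kA : ∀ x y : ℕ, x.Prime → y.Prime → x ≠ y → IsA F n x → IsA F n y →
      Adj x y (ProjectiveSpecialLinearGroup (Fin n) F) := fun x y hx hy hxy h1 h2 =>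
    adj_of hx hy hxy (hφA x h1) (hφA y h2)
  have kB : ∀ x y : ℕ, x.Prime → y.Prime → x ≠ y → IsB F n x → IsB F n y →
      Adj x y (ProjectiveSpecialLinearGroup (Fin n) F) := fun x y hx hy hxy h1 h2 =>
    adj_of hx hy hxy (hφB x hx h1) (hφB y hy h2)
  have kC : ∀ x y : ℕ, x.Prime → y.Prime → x ≠ y → IsC F n x → IsC F n y →
      Adj x y (ProjectiveSpecialLinearGroup (Fin n) F) := fun x y hx hy hxy h1 h2 =>
    adj_of hx hy hxy (hφC x h1) (hφC y h2)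
  -- the situation of two primes, one of which divides `q`
  have kQ : ∀ x y z : ℕ, x.Prime → y.Prime → z.Prime → x ≠ y → x ≠ z → y ≠ z → x ∣ 𝔮 →
      (y ∣ 𝔮 ∨ IsA F n y ∨ IsB F n y) → (z ∣ 𝔮 ∨ IsA F n z ∨ IsB F n z) →
      Adj x y (ProjectiveSpecialLinearGroup (Fin n) F) ∨ Adj y z (ProjectiveSpecialLinearGroup (Fin n) F) ∨
      Adj x z (ProjectiveSpecialLinearGroup (Fin n) F) := by
    intro x y z hx hy hz hxy hxz hyz h1 h2 h3
    have h2' : IsA F n y ∨ IsB F n y := h2.resolve_left fun h => hxy (eq_of_dvd_q hx hy h1 h)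
    have h3' : IsA F n z ∨ IsB F n z := h3.resolve_left fun h => hxz (eq_of_dvd_q hx hz h1 h)
    by_cases hBy : IsB F n y
    · by_cases hBz : IsB F n z
      · exact Or.inr (Or.inl (kB y z hy hz hyz hBy hBz))
      · exact Or.inr (Or.inr (kC x z hx hz hxz (Or.inl h1) (isC_of_isA hn hz (h3'.resolve_right hBz) hBz)))
    · exact Or.inl (kC x y hx hy hxy (Or.inl h1) (isC_of_isA hn hy (h2'.resolve_right hBy) hBy))
  by_cases qr : r ∣ 𝔮
  · exact kQ r s t pr ps pt hrs hrt hst qr cs ct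
  by_cases qs : s ∣ 𝔮
  · rcases kQ s r t ps pr pt hrs.symm hst hrt qs cr ct with h | h | h
    · exact Or.inl h.symm
    · exact Or.inr (Or.inr h)
    · exact Or.inr (Or.inl h)
  by_cases qt : t ∣ 𝔮
  · rcases kQ t r s pt pr ps hrt.symm hst.symm hrs qt cr cs with h | h | h
    · exact Or.inr (Or.inr h.symm)
    · exact Or.inl h
    · exact Or.inr (Or.inl h.symm)
  rcases cr.resolve_left qr with a | a <;> rcases cs.resolve_left qs with b | b <;>
    rcases ct.resolve_left qt with c | c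
  · exact Or.inl (kA r s pr ps hrs a b)
  · exact Or.inl (kA r s pr ps hrs a b)
  · exact Or.inr (Or.inr (kA r t pr pt hrt a c))
  · exact Or.inr (Or.inl (kB s t ps pt hst b c))
  · exact Or.inr (Or.inl (kA s t ps pt hst b c))
  · exact Or.inr (Or.inr (kB r t pr pt hrt a c))
  · exact Or.inl (kB r s pr ps hrs a b)
  · exact Or.inl (kB r s pr ps hrs a b)

/-! ### connectedness -/

theorem mem_of {S : Type v} [Group S] {r : ℕ} (hr : r.Prime) {φ : IrrCharacter S}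
    (h1 : r ∣ charDegree (φ : S → ℂ)) : r ∈ degreePrimes S := ⟨hr, _, ⟨φ, rfl⟩, h1⟩

theorem reach {S : Type v} [Group S] {φ : IrrCharacter S} (v w : degreePrimes S)
    (hv : (v : ℕ) ∣ charDegree (φ : S → ℂ)) (hw : (w : ℕ) ∣ charDegree (φ : S → ℂ)) :
    ((degreeGraph S).induce (degreePrimes S)).Reachable v w := by
  by_cases h : v = w
  · subst h
    exact SimpleGraph.Reachable.refl _
  · apply SimpleGraph.Adj.reachable
    exact adj_of v.2.1 w.2.1 (fun e => h (Subtype.ext e)) hv hw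

/-- a prime of both kinds -/
theorem exists_both {n : ℕ} (hn : 3 ≤ n) (h : 2 < 𝔮 ∨ 4 ≤ n) : ∃ c : ℕ, c.Prime ∧ IsA F n c ∧ IsB F n c := by
  have hq := one_lt_q (F := F)
  by_cases h2 : 2 < 𝔮
  · obtain ⟨c, hc, hd⟩ := Nat.exists_prime_and_dvd (show 𝔮 - 1 ≠ 1 by omega)
    exact ⟨c, hc, ⟨1, le_rfl, by omega, by rwa [pow_one]⟩, Or.inr ⟨1, le_rfl, by omega, by rwa [pow_one]⟩⟩
  · have h4 := h.resolve_left h2
    have h3 : 4 ≤ 𝔮 ^ 2 := by nlinarith
    obtain ⟨c, hc, hd⟩ := Nat.exists_prime_and_dvd (show 𝔮 ^ 2 - 1 ≠ 1 by omega)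
    exact ⟨c, hc, ⟨2, by omega, by omega, hd⟩, Or.inr ⟨2, by omega, by omega, hd⟩⟩

/-- **The degree graph of `PSL_n(q)` is connected.** -/
theorem conn {n : ℕ} (hn : 3 ≤ n) (hC : ∀ m, 1 ≤ m → HasCusp F m) (h : 2 < 𝔮 ∨ 4 ≤ n) :
    ((degreeGraph (ProjectiveSpecialLinearGroup (Fin n) F)).induce
      (degreePrimes (ProjectiveSpecialLinearGroup (Fin n) F))).Connected := by
  obtain ⟨φA, hφA⟩ := exA hn (hC n (by omega))
  obtain ⟨φB, hφB⟩ := exB hn (hC (n - 1) (by omega))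
  obtain ⟨φC, hφC⟩ := exC (F := F) (n := n) (by omega)
  obtain ⟨c, hc, hcA, hcB⟩ := exists_both (F := F) hn h
  have hq := one_lt_q (F := F)
  let c₀ : degreePrimes (ProjectiveSpecialLinearGroup (Fin n) F) := ⟨c, mem_of hc (hφA c hcA)⟩
  -- a prime `s` of kind `A` and `C`
  have hsum : ∑ i ∈ Finset.range (n - 1), 𝔮 ^ i ≠ 1 := by
    obtain ⟨k, hk⟩ : ∃ k, n - 1 = k + 2 := ⟨n - 3, by omega⟩
    rw [hk, Finset.sum_range_succ']
    have : 0 < ∑ i ∈ Finset.range (k + 1), 𝔮 ^ (i + 1) := by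
      apply Finset.sum_pos (fun i _ => pow_pos (by omega) _)
      exact ⟨0, Finset.mem_range.2 (by omega)⟩
    rw [pow_zero]
    omega
  obtain ⟨s, hs, hsd⟩ := Nat.exists_prime_and_dvd hsum
  have hsA : IsA F n s := ⟨n - 1, by omega, by omega, by rw [← geom]; exact hsd.mul_right _⟩
  let s₀ : degreePrimes (ProjectiveSpecialLinearGroup (Fin n) F) := ⟨s, mem_of hs (hφA s hsA)⟩
  have key : ∀ v : degreePrimes (ProjectiveSpecialLinearGroup (Fin n) F),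
      ((degreeGraph (ProjectiveSpecialLinearGroup (Fin n) F)).induce
      (degreePrimes (ProjectiveSpecialLinearGroup (Fin n) F))).Reachable v c₀ := by
    intro v
    obtain ⟨hv, h1 | h1 | h1⟩ := cover' v.2
    · exact (reach v s₀ (hφC _ (Or.inl h1)) (hφC _ (Or.inr hsd))).trans (reach s₀ c₀ (hφA _ hsA) (hφA _ hcA))
    · exact reach v c₀ (hφA _ h1) (hφA _ hcA)
    · exact reach v c₀ (hφB _ hv h1) (hφB _ hc hcB)
  haveI : Nonempty (degreePrimes (ProjectiveSpecialLinearGroup (Fin n) F)) := ⟨c₀⟩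
  exact ⟨fun v w => (key v).trans (key w).symm⟩

/-! ### a triangle -/

/-- a prime `≠ 3` dividing `q² + q + 1` -/
theorem exists_three_prime : ∃ r : ℕ, r.Prime ∧ r ∣ 𝔮 ^ 2 + 𝔮 + 1 ∧ ¬ r ∣ 𝔮 - 1 := by
  have hq := one_lt_q (F := F)
  by_contra hcon
  push Not at hcon
  -- every prime divisor divides `gcd (q² + q + 1, q - 1) ∣ 3`
  have h3 : ∀ r : ℕ, r.Prime → r ∣ 𝔮 ^ 2 + 𝔮 + 1 → r = 3 := by
    intro r hr hd
    have h1 := hcon r hr hd
    obtain ⟨k, hk⟩ := h1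
    have h2 : 𝔮 = r * k + 1 := by omega
    rw [h2] at hd
    have h4 : (r * k + 1) ^ 2 + (r * k + 1) + 1 = r * (r * k ^ 2 + 3 * k) + 3 := by ring
    rw [h4] at hd
    have h5 : r ∣ 3 := (Nat.dvd_add_right (Dvd.intro _ rfl)).1 hd
    exact (Nat.prime_dvd_prime_iff_eq hr Nat.prime_three).1 h5
  obtain ⟨r, hr, hd⟩ := Nat.exists_prime_and_dvd (show 𝔮 ^ 2 + 𝔮 + 1 ≠ 1 by omega)
  have hr3 := h3 r hr hd
  subst hr3
  have h1 := hcon 3 hr hd
  have h9 : ¬ 9 ∣ 𝔮 ^ 2 + 𝔮 + 1 := by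
    obtain ⟨k, hk⟩ := h1
    have h2 : 𝔮 = 3 * k + 1 := by omega
    rw [h2]
    have h4 : (3 * k + 1) ^ 2 + (3 * k + 1) + 1 = 9 * (k ^ 2 + k) + 3 := by ring
    rw [h4]
    omega
  -- so it is a power of `3`, at most `3`
  obtain ⟨m, hm⟩ := hd
  have hm1 : m = 1 := by
    by_contra hne
    obtain ⟨p, hp, hpd⟩ := Nat.exists_prime_and_dvd hne
    have := h3 p hp (by rw [hm]; exact hpd.mul_left 3)
    subst this
    obtain ⟨l, hl⟩ := hpd
    exact h9 ⟨l, by rw [hm, hl]; ring⟩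
  rw [hm1] at hm
  nlinarith

/-- an odd prime dividing `q² + 1` -/
theorem exists_four_prime : ∃ r : ℕ, r.Prime ∧ r ∣ 𝔮 ^ 2 + 1 ∧ r ≠ 2 := by
  have hq := one_lt_q (F := F)
  by_contra hcon
  push Not at hcon
  obtain ⟨r, hr, hd⟩ := Nat.exists_prime_and_dvd (show 𝔮 ^ 2 + 1 ≠ 1 by nlinarith)
  have hr2 := hcon r hr hd
  subst hr2
  have hodd : 𝔮 % 2 = 1 := by
    by_contra h
    have h0 : 𝔮 % 2 = 0 := by omega
    obtain ⟨k, hk⟩ := Nat.dvd_of_mod_eq_zero h0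
    rw [hk] at hd
    have : (2 * k) ^ 2 + 1 = 2 * (2 * k ^ 2) + 1 := by ring
    omega
  have h4 : ¬ 4 ∣ 𝔮 ^ 2 + 1 := by
    obtain ⟨k, hk⟩ : ∃ k, 𝔮 = 2 * k + 1 := ⟨𝔮 / 2, by omega⟩
    rw [hk]
    have : (2 * k + 1) ^ 2 + 1 = 4 * (k ^ 2 + k) + 2 := by ring
    omega
  obtain ⟨m, hm⟩ := hd
  have hm1 : m = 1 := by
    by_contra hne
    obtain ⟨p, hp, hpd⟩ := Nat.exists_prime_and_dvd hne
    have := hcon p hp (by rw [hm]; exact hpd.mul_left 2)
    subst this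
    obtain ⟨l, hl⟩ := hpd
    exact h4 ⟨l, by rw [hm, hl]; ring⟩
  rw [hm1] at hm
  nlinarith

/-- the triangle for `n ≥ 5` -/
theorem tri_five {n : ℕ} (hn : 5 ≤ n) (hC : ∀ m, 1 ≤ m → HasCusp F m) :
    ∃ a b c : ℕ, Adj a b (ProjectiveSpecialLinearGroup (Fin n) F) ∧
      Adj b c (ProjectiveSpecialLinearGroup (Fin n) F) ∧ Adj a c (ProjectiveSpecialLinearGroup (Fin n) F) := by
  obtain ⟨φA, hφA⟩ := exA (by omega) (hC n (by omega))
  have hq := one_lt_q (F := F)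
  obtain ⟨r₃, p3, d3, n3⟩ := exists_three_prime (F := F)
  obtain ⟨r₄, p4, d4, n4⟩ := exists_four_prime (F := F)
  have h3 : 4 ≤ 𝔮 ^ 2 := by nlinarith
  obtain ⟨r₂, p2, d2⟩ := Nat.exists_prime_and_dvd (show 𝔮 ^ 2 - 1 ≠ 1 by omega)
  have a2 := hφA r₂ ⟨2, by omega, by omega, d2⟩
  have a3 := hφA r₃ ⟨3, by omega, by omega, by
    rw [← geom]
    apply Dvd.dvd.mul_right
    have : ∑ i ∈ Finset.range 3, 𝔮 ^ i = 𝔮 ^ 2 + 𝔮 + 1 := by simp [Finset.sum_range_succ]; ring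
    rwa [this]⟩
  have a4 := hφA r₄ ⟨4, by omega, by omega, by
    have : 𝔮 ^ 4 - 1 = (𝔮 ^ 2 + 1) * (𝔮 ^ 2 - 1) := by
      obtain ⟨k, hk⟩ : ∃ k, 𝔮 ^ 2 = k + 1 := ⟨𝔮 ^ 2 - 1, by omega⟩
      have h5 : 𝔮 ^ 4 = (𝔮 ^ 2) ^ 2 := by ring
      rw [h5, hk, Nat.add_sub_cancel]
      have : (k + 1) ^ 2 = (k + 1 + 1) * k + 1 := by ring
      omega
    rw [this]
    exact d4.mul_right _⟩
  have e23 : r₂ ≠ r₃ := by
    rintro rfl
    have h5 : 𝔮 ^ 2 - 1 = (𝔮 - 1) * (𝔮 + 1) := by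
      obtain ⟨k, hk⟩ : ∃ k, 𝔮 = k + 1 := ⟨𝔮 - 1, by omega⟩
      rw [hk, Nat.add_sub_cancel]
      have : (k + 1) ^ 2 = k * (k + 1 + 1) + 1 := by ring
      omega
    rw [h5, p2.dvd_mul] at d2
    rcases d2 with h | h
    · exact n3 h
    · have h6 : 𝔮 ^ 2 + 𝔮 + 1 = 𝔮 * (𝔮 + 1) + 1 := by ring
      rw [h6] at d3
      exact p2.one_lt.ne' (Nat.dvd_one.1 ((Nat.dvd_add_right (h.mul_left _)).1 d3))
  have e24 : r₂ ≠ r₄ := by
    rintro rfl
    have h6 : 𝔮 ^ 2 + 1 = (𝔮 ^ 2 - 1) + 2 := by omega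
    rw [h6] at d4
    exact n4 ((Nat.prime_dvd_prime_iff_eq p2 Nat.prime_two).1 ((Nat.dvd_add_right d2).1 d4))
  have e34 : r₃ ≠ r₄ := by
    rintro rfl
    have h6 : 𝔮 ^ 2 + 𝔮 + 1 = (𝔮 ^ 2 + 1) + 𝔮 := by ring
    rw [h6] at d3
    have h7 := (Nat.dvd_add_right d4).1 d3
    exact p3.one_lt.ne' (Nat.dvd_one.1 ((Nat.dvd_add_right (h7.trans (dvd_pow_self _ two_ne_zero))).1 d4))
  exact ⟨r₂, r₃, r₄, adj_of p2 p3 e23 a2 a3, adj_of p3 p4 e34 a3 a4, adj_of p2 p4 e24 a2 a4⟩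

/-- the triangle for `n = 4` -/
theorem tri_four (hC : HasCusp F 2) :
    ∃ a b c : ℕ, Adj a b (ProjectiveSpecialLinearGroup (Fin 4) F) ∧
      Adj b c (ProjectiveSpecialLinearGroup (Fin 4) F) ∧ Adj a c (ProjectiveSpecialLinearGroup (Fin 4) F) := by
  have hq := one_lt_q (F := F)
  obtain ⟨φ, t, ht, hφ⟩ := t7 hC
  have hdvd := dvd_of_mul_eq (c := 𝔮 - 1) (by omega) (ht.trans (Nat.gcd_dvd_right _ _)) hφ
  obtain ⟨r₃, p3, d3, n3⟩ := exists_three_prime (F := F)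
  obtain ⟨r₄, p4, d4, n4⟩ := exists_four_prime (F := F)
  obtain ⟨p, pp, dp⟩ := Nat.exists_prime_and_dvd (show 𝔮 ≠ 1 by omega)
  have ap : p ∣ charDegree (φ : ProjectiveSpecialLinearGroup (Fin 4) F → ℂ) := (dp.mul_right _).trans hdvd
  have a3 : r₃ ∣ charDegree (φ : ProjectiveSpecialLinearGroup (Fin 4) F → ℂ) :=
    ((d3.mul_left _).mul_left _).trans hdvd
  have a4 : r₄ ∣ charDegree (φ : ProjectiveSpecialLinearGroup (Fin 4) F → ℂ) :=
    ((d4.mul_right _).mul_left _).trans hdvd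
  have e34 : r₃ ≠ r₄ := by
    rintro rfl
    have h6 : 𝔮 ^ 2 + 𝔮 + 1 = (𝔮 ^ 2 + 1) + 𝔮 := by ring
    rw [h6] at d3
    have h7 := (Nat.dvd_add_right d4).1 d3
    exact p3.one_lt.ne' (Nat.dvd_one.1 ((Nat.dvd_add_right (h7.trans (dvd_pow_self _ two_ne_zero))).1 d4))
  have ep3 : p ≠ r₃ := by
    rintro rfl
    have h6 : 𝔮 ^ 2 + 𝔮 + 1 = 𝔮 * (𝔮 + 1) + 1 := by ring
    rw [h6] at d3
    exact pp.one_lt.ne' (Nat.dvd_one.1 ((Nat.dvd_add_right (dp.mul_right _)).1 d3))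
  have ep4 : p ≠ r₄ := by
    rintro rfl
    exact pp.one_lt.ne' (Nat.dvd_one.1 ((Nat.dvd_add_right (dp.trans (dvd_pow_self _ two_ne_zero))).1 d4))
  exact ⟨p, r₃, r₄, adj_of pp p3 ep3 ap a3, adj_of p3 p4 e34 a3 a4, adj_of pp p4 ep4 ap a4⟩

/-- distinct prime divisors of `q - 1` and `q + 1`, `q ≥ 4` -/
theorem exists_one_two {x : ℕ} (hx : 4 ≤ x) : ∃ r s : ℕ, r.Prime ∧ s.Prime ∧ r ≠ s ∧ r ∣ x - 1 ∧ s ∣ x + 1 := by
  rcases Nat.even_or_odd x with ⟨k, hk⟩ | ⟨k, hk⟩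
  · obtain ⟨r, hr, hrd⟩ := Nat.exists_prime_and_dvd (show x - 1 ≠ 1 by omega)
    obtain ⟨s, hs, hsd⟩ := Nat.exists_prime_and_dvd (show x + 1 ≠ 1 by omega)
    refine ⟨r, s, hr, hs, ?_, hrd, hsd⟩
    rintro rfl
    have h1 : x + 1 = (x - 1) + 2 := by omega
    rw [h1] at hsd
    have h2 := (Nat.prime_dvd_prime_iff_eq hr Nat.prime_two).1 ((Nat.dvd_add_right hrd).1 hsd)
    subst h2
    omega
  · rcases Nat.even_or_odd k with ⟨l, hl⟩ | ⟨l, hl⟩
    · -- `x = 4 l + 1`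
      have h1 : x + 1 = 2 * (2 * l + 1) := by omega
      obtain ⟨s, hs, hsd⟩ := Nat.exists_prime_and_dvd (show 2 * l + 1 ≠ 1 by omega)
      refine ⟨2, s, Nat.prime_two, hs, ?_, ⟨2 * l, by omega⟩, by rw [h1]; exact hsd.mul_left 2⟩
      rintro rfl
      omega
    · -- `x = 4 l + 3`
      have h1 : x - 1 = 2 * (2 * l + 1) := by omega
      obtain ⟨s, hs, hsd⟩ := Nat.exists_prime_and_dvd (show 2 * l + 1 ≠ 1 by omega)
      refine ⟨s, 2, hs, Nat.prime_two, ?_, by rw [h1]; exact hsd.mul_left 2, ⟨2 * l + 2, by omega⟩⟩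
      rintro rfl
      omega

/-- the triangle for `n = 3`, `q ≥ 4` -/
theorem tri_three (hC : ∀ m, 1 ≤ m → HasCusp F m) (h4 : 4 ≤ 𝔮) :
    ∃ a b c : ℕ, Adj a b (ProjectiveSpecialLinearGroup (Fin 3) F) ∧
      Adj b c (ProjectiveSpecialLinearGroup (Fin 3) F) ∧ Adj a c (ProjectiveSpecialLinearGroup (Fin 3) F) := by
  classical
  obtain ⟨φA, hφA⟩ := exA (le_refl 3) (hC 3 (by omega))
  obtain ⟨φB, hφB⟩ := exB (le_refl 3) (hC (3 - 1) (by omega))
  obtain ⟨φ, t, ht, hφ⟩ := exists_ps (F := F) h4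
  obtain ⟨r₃, p3, d3, n3⟩ := exists_three_prime (F := F)
  obtain ⟨r, s, pr, ps, hrs, hr, hs⟩ := exists_one_two h4
  have hsum : ∑ i ∈ Finset.range 3, 𝔮 ^ i = 𝔮 ^ 2 + 𝔮 + 1 := by simp [Finset.sum_range_succ]; ring
  have hmul : charDegree (φ : ProjectiveSpecialLinearGroup (Fin 3) F → ℂ) * t = (𝔮 ^ 2 + 𝔮 + 1) * (𝔮 + 1) := by
    rw [← geom, hsum] at hφ
    apply Nat.eq_of_mul_eq_mul_right (show 0 < 𝔮 - 1 by omega)
    rw [hφ]
    ring
  have hs2 : 𝔮 ^ 2 - 1 = (𝔮 - 1) * (𝔮 + 1) := by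
    obtain ⟨k, hk⟩ : ∃ k, 𝔮 = k + 1 := ⟨𝔮 - 1, by omega⟩
    rw [hk, Nat.add_sub_cancel]
    have : (k + 1) ^ 2 = k * (k + 1 + 1) + 1 := by ring
    omega
  have ar : r ∣ charDegree (φA : ProjectiveSpecialLinearGroup (Fin 3) F → ℂ) :=
    hφA r ⟨1, le_rfl, by omega, by rwa [pow_one]⟩
  have as : s ∣ charDegree (φA : ProjectiveSpecialLinearGroup (Fin 3) F → ℂ) :=
    hφA s ⟨2, by omega, by omega, by rw [hs2]; exact hs.mul_left _⟩
  have br : r ∣ charDegree (φB : ProjectiveSpecialLinearGroup (Fin 3) F → ℂ) :=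
    hφB r pr (Or.inr ⟨1, le_rfl, by omega, by rwa [pow_one]⟩)
  have b3 : r₃ ∣ charDegree (φB : ProjectiveSpecialLinearGroup (Fin 3) F → ℂ) :=
    hφB r₃ p3 (Or.inl (by rw [← geom, hsum]; exact d3.mul_right _))
  have c3 : r₃ ∣ charDegree (φ : ProjectiveSpecialLinearGroup (Fin 3) F → ℂ) := by
    have h5 : r₃.Coprime t := by
      rw [p3.coprime_iff_not_dvd]
      intro h6
      exact n3 ((h6.trans ht).trans (Nat.gcd_dvd_right _ _))
    refine h5.dvd_of_dvd_mul_right ?_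
    rw [hmul]
    exact d3.mul_right _
  have cs : s ∣ charDegree (φ : ProjectiveSpecialLinearGroup (Fin 3) F → ℂ) := by
    have h5 : s.Coprime t := by
      rw [ps.coprime_iff_not_dvd]
      intro h6
      have h7 := (Nat.prime_dvd_prime_iff_eq ps Nat.prime_three).1 ((h6.trans ht).trans (Nat.gcd_dvd_left _ _))
      have h8 := (h6.trans ht).trans (Nat.gcd_dvd_right _ _)
      subst h7
      omega
    refine h5.dvd_of_dvd_mul_right ?_
    rw [hmul]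
    exact hs.mul_left _
  have e3 : s ≠ r₃ := by
    rintro rfl
    have h6 : 𝔮 ^ 2 + 𝔮 + 1 = 𝔮 * (𝔮 + 1) + 1 := by ring
    rw [h6] at d3
    exact ps.one_lt.ne' (Nat.dvd_one.1 ((Nat.dvd_add_right (hs.mul_left _)).1 d3))
  have e1 : r ≠ r₃ := by
    rintro rfl
    exact n3 hr
  exact ⟨r, s, r₃, adj_of pr ps hrs ar as, adj_of ps p3 e3 cs c3, adj_of pr p3 e1 br b3⟩

/-- the triangle for `PSL_3(3)` -/
theorem tri_three_three (hC : ∀ m, 1 ≤ m → HasCusp F m) (h3 : 𝔮 = 3) :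
    ∃ a b c : ℕ, Adj a b (ProjectiveSpecialLinearGroup (Fin 3) F) ∧
      Adj b c (ProjectiveSpecialLinearGroup (Fin 3) F) ∧ Adj a c (ProjectiveSpecialLinearGroup (Fin 3) F) := by
  classical
  obtain ⟨φB, hφB⟩ := exB (le_refl 3) (hC (3 - 1) (by omega))
  obtain ⟨φC, hφC⟩ := exC (F := F) (n := 3) (by omega)
  obtain ⟨φ, t, ht, hφ⟩ := exists_st (F := F) (by omega) (by omega)
  rw [h3] at ht hφ
  have ht1 : t = 1 := Nat.dvd_one.1 (ht.trans (by norm_num))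
  subst ht1
  have hd : charDegree (φ : ProjectiveSpecialLinearGroup (Fin 3) F → ℂ) = 39 := by omega
  have p13 : Nat.Prime 13 := by norm_num
  have c2 := hφC 2 (Or.inr (by rw [h3]; simp [Finset.sum_range_succ]))
  have c3 := hφC 3 (Or.inl (by rw [h3]))
  have b2 := hφB 2 Nat.prime_two (Or.inl (by rw [h3]; norm_num))
  have b13 := hφB 13 p13 (Or.inl (by rw [h3]; norm_num))
  exact ⟨2, 3, 13, adj_of Nat.prime_two Nat.prime_three (by norm_num) c2 c3,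
    adj_of Nat.prime_three p13 (by norm_num) (φ := φ) (by rw [hd]; norm_num) (by rw [hd]; norm_num),
    adj_of Nat.prime_two p13 (by norm_num) b2 b13⟩

/-- **The degree graph of `PSL_n(q)`, `(n, q) ≠ (3, 2)`, contains a triangle.** -/
theorem tri {n : ℕ} (hn : 3 ≤ n) (hC : ∀ m, 1 ≤ m → HasCusp F m) (h : 2 < 𝔮 ∨ 4 ≤ n) :
    ∃ a b c : ℕ, Adj a b (ProjectiveSpecialLinearGroup (Fin n) F) ∧
      Adj b c (ProjectiveSpecialLinearGroup (Fin n) F) ∧ Adj a c (ProjectiveSpecialLinearGroup (Fin n) F) := by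
  by_cases h5 : 5 ≤ n
  · exact tri_five h5 hC
  by_cases h4 : n = 4
  · subst h4
    exact tri_four (hC 2 (by omega))
  have h3 : n = 3 := by omega
  subst h3
  by_cases hq : 4 ≤ 𝔮
  · exact tri_three hC hq
  · exact tri_three_three hC (by omega)

end Cfsg.Agent.H113.PSL.Facts
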