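import Mathlib

/-!
# Multiplicative characters of a finite field of given order (hub H5)

`exists_theta`: for finite fields `L / F` of degree `n ≥ 1` there is `θ : L →*₀ ℂ`, trivial on `F`, with
`θ (x ^ q ^ i) ≠ θ x` for some `x`, for every `0 < i < n`.
-/

set_option autoImplicit false
set_option linter.unusedSectionVars false

namespace Cfsg.Agent.H113.PSL.Theta

universe u v

/-- a character of order `k` -/
theorem exists_of_order {L : Type v} [Field L] [Finite L] {k : ℕ} (hk : k ∣ Nat.card L - 1) :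
    ∃ θ : L →*₀ ℂ, (∀ x : L, x ≠ 0 → θ x ^ k = 1) ∧ ∀ m : ℕ, (∀ x : L, x ≠ 0 → θ x ^ m = 1) → k ∣ m := by
  classical
  have : Fintype L := Fintype.ofFinite L
  have hk0 : k ≠ 0 := by
    rintro rfl
    have h1 := Nat.eq_zero_of_zero_dvd hk
    have h2 : 1 < Nat.card L := Finite.one_lt_card
    omega
  have hk' : k ∣ Fintype.card L - 1 := by rwa [← Nat.card_eq_fintype_card]
  obtain ⟨χ, hχ⟩ := MulChar.exists_mulChar_orderOf L hk' (Complex.isPrimitiveRoot_exp k hk0)
  have hpow : ∀ (m : ℕ) (x : L), x ≠ 0 → (χ ^ m) x = χ x ^ m := by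
    intro m x hx
    have hx' : IsUnit x := hx.isUnit
    obtain ⟨y, rfl⟩ := hx'
    rw [MulChar.pow_apply_coe]
  refine ⟨{ toFun := χ, map_zero' := MulChar.map_zero χ, map_one' := map_one χ, map_mul' := map_mul χ }, ?_, ?_⟩
  · intro x hx
    change χ x ^ k = 1
    rw [← hpow k x hx, ← hχ, pow_orderOf_eq_one]
    exact MulChar.one_apply hx.isUnit
  · intro m hm
    rw [← hχ]
    apply orderOf_dvd_of_pow_eq_one
    apply MulChar.ext
    intro y
    rw [hpow m _ y.ne_zero, MulChar.one_apply_coe]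
    exact hm _ y.ne_zero

/-- roots of unity are powers -/
theorem exists_pow_eq {C : Type v} [CommGroup C] [Finite C] [IsCyclic C] {d k : ℕ} (hd : 0 < d) (h : d * k ∣ Nat.card C)
    {x : C} (hx : x ^ d = 1) : ∃ y : C, y ^ k = x := by
  obtain ⟨g, hg⟩ := IsCyclic.exists_generator (α := C)
  obtain ⟨j, rfl⟩ := Submonoid.mem_powers_iff .. |>.1 (mem_powers_iff_mem_zpowers.2 (hg x))
  have h1 : orderOf g = Nat.card C := orderOf_eq_card_of_forall_mem_zpowers hg
  rw [← pow_mul] at hx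
  have h2 : d * k ∣ j * d := h.trans (h1 ▸ orderOf_dvd_of_pow_eq_one hx)
  rw [mul_comm j d] at h2
  obtain ⟨i, hi⟩ := Nat.dvd_of_mul_dvd_mul_left hd h2
  exact ⟨g ^ i, by rw [← pow_mul, hi, mul_comm]⟩

variable {F : Type u} {L : Type v} [Field F] [Finite F] [Field L] [Finite L] [Algebra F L]

/-- triviality on the subfield -/
theorem theta_algebraMap {k : ℕ} (hk : (Nat.card F - 1) * k ∣ Nat.card L - 1) {θ : L →*₀ ℂ}
    (hθ : ∀ x : L, x ≠ 0 → θ x ^ k = 1) (a : F) (ha : a ≠ 0) : θ (algebraMap F L a) = 1 := by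
  classical
  have hq : 1 < Nat.card F := Finite.one_lt_card
  have : Fintype F := Fintype.ofFinite F
  have hb0 : algebraMap F L a ≠ 0 := by
    rw [Ne, map_eq_zero]; exact ha
  let b : Lˣ := Units.mk0 (algebraMap F L a) hb0
  have hb : b ^ (Nat.card F - 1) = 1 := by
    ext
    change (algebraMap F L a) ^ (Nat.card F - 1) = 1
    rw [← map_pow, Nat.card_eq_fintype_card, FiniteField.pow_card_sub_one_eq_one a ha, map_one]
  have hc : Nat.card Lˣ = Nat.card L - 1 := Nat.card_units L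
  obtain ⟨y, hy⟩ := exists_pow_eq (C := Lˣ) (d := Nat.card F - 1) (k := k) (by omega) (by rwa [hc]) hb
  have h1 : algebraMap F L a = (y : L) ^ k := by
    rw [← Units.val_pow_eq_pow_val, hy]
    rfl
  rw [h1, map_pow]
  exact hθ _ y.ne_zero

/-- regularity -/
theorem theta_regular {k q i : ℕ} {θ : L →*₀ ℂ} (hq : 1 ≤ q)
    (hθ : ∀ m : ℕ, (∀ x : L, x ≠ 0 → θ x ^ m = 1) → k ∣ m) (h : ¬ k ∣ q ^ i - 1) :
    ∃ x : L, θ (x ^ q ^ i) ≠ θ x := by
  by_contra hno
  push Not at hno
  apply h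
  apply hθ
  intro x hx
  have h1 := hno x
  have h2 : θ x ≠ 0 := by
    rw [Ne, map_eq_zero]; exact hx
  rw [map_pow] at h1
  have h3 : q ^ i = (q ^ i - 1) + 1 := by
    have := Nat.one_le_pow i q hq
    omega
  rw [h3, pow_succ] at h1
  exact mul_right_cancel₀ h2 (by rw [h1, one_mul])

theorem exists_theta {n : ℕ} (hn : 1 ≤ n) (hL : Module.finrank F L = n) :
    ∃ θ : L →*₀ ℂ, (∀ a : F, a ≠ 0 → θ (algebraMap F L a) = 1) ∧
      ∀ i, 0 < i → i < n → ∃ x : L, θ (x ^ Nat.card F ^ i) ≠ θ x := by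
  have hq : 2 ≤ Nat.card F := Finite.one_lt_card
  have hcard : Nat.card L = Nat.card F ^ n := by
    have : FiniteDimensional F L := Module.finite_of_finrank_pos (by omega)
    rw [← hL]
    exact Module.natCard_eq_pow_finrank
  set q := Nat.card F with hqd
  let k := ∑ j ∈ Finset.range n, q ^ j
  have hk : (q - 1) * k = q ^ n - 1 := by
    rw [mul_comm]
    exact geom_sum_mul_of_one_le (by omega) n
  obtain ⟨θ, h1, h2⟩ := exists_of_order (L := L) (k := k) (by rw [hcard, ← hk]; exact dvd_mul_left _ _)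
  refine ⟨θ, ?_, ?_⟩
  · exact theta_algebraMap (k := k) (by rw [hcard, ← hk]) h1
  · intro i hi hin
    refine theta_regular (by omega) h2 ?_
    intro hdvd
    have h3 : 0 < q ^ i - 1 := Nat.sub_pos_of_lt (Nat.one_lt_pow (by omega) hq)
    have h4 := Nat.le_of_dvd h3 hdvd
    have h5 : q ^ i ≤ k := Finset.single_le_sum (f := fun j => q ^ j) (fun j _ => Nat.zero_le _) (Finset.mem_range.2 hin)
    omega

end Cfsg.Agent.H113.PSL.Theta
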