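import Mathlib
import Cfsg.Prelude.Def_Characters
import Cfsg.Prelude.Def_Blocks
import Cfsg.Agent.Characters.Core
import Cfsg.Agent.S0887
import Cfsg.Agent.H113.NormTwoChar
import Cfsg.Agent.Blocks.Deflate
import Cfsg.Agent.Blocks.Basic
import Cfsg.Agent.H183.OutPSL

/-!
# From `GL_n(q)` to `PSL_n(q)` (hub H5)

* `exists_irr_of_normal`: `f : S →* Q` with normal image, `χ ∈ Irr(Q)`: there is `φ ∈ Irr(S)` with
  `χ(1) = t φ(1)`, `t ∣ |Q : f(S)|`.
* `exists_irr_psl`: `χ ∈ Irr(GL_n(q))` trivial on the scalars: there is `φ ∈ Irr(PSL_n(q))` with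
  `χ(1) = t φ(1)`, `t ∣ gcd(n, q - 1)`.
-/

set_option autoImplicit false
set_option linter.unusedSectionVars false

namespace Cfsg.Agent.H113.PSL.Pass

open Cfsg Cfsg.Agent.Characters.Core
open Matrix

universe u v

/-- **Passage to a group mapping onto a normal subgroup.** -/
theorem exists_irr_of_normal {S : Type u} {Q : Type v} [Group S] [Group Q] [Finite S] [Finite Q] (f : S →* Q)
    (hn : f.range.Normal) {χ : Q → ℂ} (hχ : IsIrrCharacter Q χ) {d : ℕ}
    (hd : χ 1 = d) : ∃ (φ : IrrCharacter S) (t : ℕ), t ∣ f.range.index ∧ charDegree (φ : S → ℂ) * t = d := by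
  classical
  have : Fintype S := Fintype.ofFinite S
  have : Fintype Q := Fintype.ofFinite Q
  have : Fintype f.range := Fintype.ofFinite _
  have hres : IsCharacter f.range (fun n : f.range => χ n) :=
    isCharacter_comp f.range.subtype (isIrr_isCharacter hχ)
  have h0 : (fun n : f.range => χ n) ≠ 0 := by
    intro h
    have := congrFun h 1
    exact isIrr_apply_one_ne_zero hχ this
  obtain ⟨θ, hθ, hne⟩ := Cfsg.Agent.H113.NormTwoChar.exists_constituent hres h0
  obtain ⟨e, he0, he⟩ := isIrr_apply_one hθ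
  obtain ⟨h1, h2⟩ := Cfsg.Agent.S0887.result f.range χ hχ θ hθ hne d e hd he
  have hφ : IsIrrCharacter S (θ ∘ f.rangeRestrict) := isIrr_comp f.rangeRestrict f.rangeRestrict_surjective hθ
  refine ⟨⟨θ ∘ f.rangeRestrict, hφ⟩, d / e, h2, ?_⟩
  have h3 : charDegree (θ ∘ f.rangeRestrict) = e := by
    apply Blocks.Basic.charDegree_of_eq
    rw [Function.comp_apply, map_one, he]
  change charDegree (θ ∘ f.rangeRestrict) * (d / e) = d
  rw [h3, Nat.mul_div_cancel' h1]

section psl

variable {F : Type u} [Field F] [Fintype F] {n : ℕ}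

/-- characters of `GL_n` trivial on the scalars are characters of `PGL_n` -/
theorem exists_pgl {χ : GL (Fin n) F → ℂ} (hχ : IsIrrCharacter _ χ)
    (hz : ∀ c : Fˣ, χ (GeneralLinearGroup.scalar (Fin n) c) = χ 1) :
    ∃ χ' : ProjGenLinGroup (Fin n) F → ℂ, IsIrrCharacter _ χ' ∧ χ = χ' ∘ ProjGenLinGroup.mk := by
  classical
  have : Fintype (Subgroup.center (GL (Fin n) F)) := Fintype.ofFinite _
  have hsum : ∑ z : Subgroup.center (GL (Fin n) F), χ z ≠ 0 := by
    have h1 : ∀ z : Subgroup.center (GL (Fin n) F), χ z = χ 1 := by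
      rintro ⟨z, hz'⟩
      rw [GeneralLinearGroup.center_eq_range_scalar] at hz'
      obtain ⟨c, rfl⟩ := hz'
      exact hz c
    rw [Finset.sum_congr rfl fun z _ => h1 z, Finset.sum_const, nsmul_eq_mul]
    refine mul_ne_zero ?_ (isIrr_apply_one_ne_zero hχ)
    rw [Finset.card_univ]
    exact_mod_cast Fintype.card_ne_zero
  obtain ⟨χ', h⟩ := Blocks.Deflate.exists_deflation (Subgroup.center (GL (Fin n) F)) χ hχ hsum
  exact ⟨(χ' : GL (Fin n) F ⧸ Subgroup.center (GL (Fin n) F) → ℂ), χ'.2, h⟩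

theorem range_toPGL_normal : (ProjectiveSpecialLinearGroup.toPGL (n := Fin n) (R := F)).range.Normal := by
  constructor
  rintro _ ⟨g, rfl⟩ x
  obtain ⟨g, rfl⟩ := QuotientGroup.mk_surjective g
  obtain ⟨x, rfl⟩ := ProjGenLinGroup.mk_surjective x
  have h1 : (x * SpecialLinearGroup.toGL g * x⁻¹).det = 1 := by
    rw [map_mul, map_mul, map_inv, mul_inv_cancel_comm]
    ext
    exact g.2
  let y : SpecialLinearGroup (Fin n) F := ⟨((x * SpecialLinearGroup.toGL g * x⁻¹ : GL (Fin n) F) : Matrix _ _ F), by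
    rw [← GeneralLinearGroup.val_det_apply, h1, Units.val_one]⟩
  have hy : SpecialLinearGroup.toGL y = x * SpecialLinearGroup.toGL g * x⁻¹ := Units.ext rfl
  refine ⟨(y : ProjectiveSpecialLinearGroup (Fin n) F), ?_⟩
  have h2 : ProjectiveSpecialLinearGroup.toPGL (y : ProjectiveSpecialLinearGroup (Fin n) F) =
      ProjGenLinGroup.mk (SpecialLinearGroup.toGL y) := ProjectiveSpecialLinearGroup.toPGL_mk y
  have h3 : ProjectiveSpecialLinearGroup.toPGL (g : ProjectiveSpecialLinearGroup (Fin n) F) =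
      ProjGenLinGroup.mk (SpecialLinearGroup.toGL g) := ProjectiveSpecialLinearGroup.toPGL_mk g
  rw [h2, hy]
  exact (congrArg (fun a => ProjGenLinGroup.mk x * a * (ProjGenLinGroup.mk x)⁻¹) h3).symm ▸ (by rw [map_mul, map_mul, map_inv])

theorem index_range_toPGL (hn : 2 ≤ n) :
    (ProjectiveSpecialLinearGroup.toPGL (n := Fin n) (R := F)).range.index = Nat.gcd n (Fintype.card F - 1) := by
  have h1 := Subgroup.card_mul_index (ProjectiveSpecialLinearGroup.toPGL (n := Fin n) (R := F)).range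
  have h2 : Nat.card (ProjectiveSpecialLinearGroup.toPGL (n := Fin n) (R := F)).range =
      Nat.card (ProjectiveSpecialLinearGroup (Fin n) F) :=
    (Nat.card_congr (MonoidHom.ofInjective ProjectiveSpecialLinearGroup.toPGL_injective).toEquiv).symm
  rw [h2, H183.OutPSL.card_pgl_eq hn, mul_comm] at h1
  have : Finite (ProjectiveSpecialLinearGroup (Fin n) F) := inferInstance
  exact Nat.eq_of_mul_eq_mul_right Nat.card_pos h1

/-- **From `GL_n(q)` to `PSL_n(q)`.** -/
theorem exists_irr_psl (hn : 2 ≤ n) {χ : GL (Fin n) F → ℂ} (hχ : IsIrrCharacter _ χ)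
    (hz : ∀ c : Fˣ, χ (GeneralLinearGroup.scalar (Fin n) c) = χ 1) {d : ℕ} (hd : χ 1 = d) :
    ∃ (φ : IrrCharacter (ProjectiveSpecialLinearGroup (Fin n) F)) (t : ℕ),
      t ∣ Nat.gcd n (Fintype.card F - 1) ∧ charDegree (φ : ProjectiveSpecialLinearGroup (Fin n) F → ℂ) * t = d := by
  obtain ⟨χ', h1, h2⟩ := exists_pgl hχ hz
  rw [← index_range_toPGL hn]
  have : Finite (ProjGenLinGroup (Fin n) F) := Finite.of_surjective _ ProjGenLinGroup.mk_surjective
  refine exists_irr_of_normal ProjectiveSpecialLinearGroup.toPGL range_toPGL_normal h1 ?_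
  rw [← hd, h2, Function.comp_apply, map_one]

end psl

end Cfsg.Agent.H113.PSL.Pass
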